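import Cfsg.Agent.Cod.Gen

/-! The Cayley table of the central product of two quaternion groups. -/

set_option autoImplicit false
set_option maxRecDepth 1000000
set_option maxHeartbeats 0
set_option Elab.async false

namespace CF.GM.CE

open CF.Comp CF.Cod

noncomputable def RQ : List (List Nat) := [[(nat_lit 9), (nat_lit 9)],
  [(nat_lit 1), (nat_lit 1), (nat_lit 10)],
  [(nat_lit 3), (nat_lit 3), (nat_lit 10)],
  [(nat_lit 1), (nat_lit 3), (nat_lit 2), (nat_lit 4), (nat_lit 10)],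
  [(nat_lit 5), (nat_lit 5), (nat_lit 10)],
  [(nat_lit 7), (nat_lit 7), (nat_lit 10)],
  [(nat_lit 5), (nat_lit 7), (nat_lit 6), (nat_lit 8), (nat_lit 10)],
  [(nat_lit 1), (nat_lit 5), (nat_lit 2), (nat_lit 6)],
  [(nat_lit 1), (nat_lit 7), (nat_lit 2), (nat_lit 8)],
  [(nat_lit 3), (nat_lit 5), (nat_lit 4), (nat_lit 6)],
  [(nat_lit 3), (nat_lit 7), (nat_lit 4), (nat_lit 8)]]
noncomputable def TQ_c0 : BT (Bx Nat) := (BT.leaf (Bx.mk (nat_lit 0xffbbcdeb38bda959ca307b9ac52d27414c320440)))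
noncomputable def TQ_c1 : BT (Bx Nat) := (BT.leaf (Bx.mk (nat_lit 0xef3dfa56728c37ac66d73a0a620c4f7358a58121)))
noncomputable def TQ_c2 : BT (Bx Nat) := (BT.leaf (Bx.mk (nat_lit 0xe77fead2538475bce2f641cc51902e7b1ab52402)))
noncomputable def TQ_c3 : BT (Bx Nat) := (BT.leaf (Bx.mk (nat_lit 0xd6e95ff9cf637bc3a0a6ce2f608893946004ad43)))
noncomputable def TQ_c4 : BT (Bx Nat) := (BT.leaf (Bx.mk (nat_lit 0xdeab4f7dee6b39d41cc5c66d7104729c22902964)))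
noncomputable def TQ_c5 : BT (Bx Nat) := (BT.leaf (Bx.mk (nat_lit 0xce2727bbdf52d07e7464d6c22bd8d4a813183585)))
noncomputable def TQ_c6 : BT (Bx Nat) := (BT.leaf (Bx.mk (nat_lit 0xc665373ffe5a8e8ef083de841b5cb5a24108b1a6)))
noncomputable def TQ_c7 : BT (Bx Nat) := (BT.leaf (Bx.mk (nat_lit 0xb5e116354bff8a6193bc08b7ace1004d69393dc7)))
noncomputable def TQ_c8 : BT (Bx Nat) := (BT.leaf (Bx.mk (nat_lit 0xbda306b16af7cc520f9d1075bc64e9052b29b9e8)))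
noncomputable def TQ_c9 : BT (Bx Nat) := (BT.leaf (Bx.mk (nat_lit 0xf7f9dd6f19b5e9594e1173d8d52c07414c320449)))
noncomputable def TQ_w : BT (Bx Nat) := (BT.leaf (Bx.mk (nat_lit 0x85317531085307530851075108310731063105310085007500830073006300530081007100610051004100310009000800070006000500040003000200010000)))
noncomputable def TQ_cols : List (BT (Bx Nat)) := [TQ_c0, TQ_c1, TQ_c2, TQ_c3, TQ_c4, TQ_c5, TQ_c6, TQ_c7, TQ_c8, TQ_c9, TQ_c9]
noncomputable def TQ_ch (x j : Nat) : Bx Nat := chk TQ_cols x j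
noncomputable def TQ_wc (_ j : Nat) : Bx Nat := TQ_w.get j
noncomputable def TQ : CT := ⟨(nat_lit 32), (nat_lit 5), (nat_lit 31), TQ_ch, (nat_lit 16), (nat_lit 65535), TQ_wc, (nat_lit 2046)⟩
theorem TQ_ok : TQ.ok = true := by decide +kernel
theorem TQ_rel : lall TQ.relOK RQ = true := by decide +kernel
noncomputable def eQ_c0 : BT (Bx Nat) := (BT.leaf (Bx.mk (nat_lit 0x0)))
noncomputable def eQ_c1 : BT (Bx Nat) := (BT.leaf (Bx.mk (nat_lit 0x115e115d215f21603155635633543a9333523a91215c78db48d94a5a4a1749d851486149514661475145514471437150714f714e714d614b614c9141834aa0420000)))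
noncomputable def eQ_c2 : BT (Bx Nat) := (BT.leaf (Bx.mk (nat_lit 0x36dd371e276023df33d661153113311431113112511b46dc211a211921182117870986c886878646798479457102774f63d0774d63ce63cc674b83ca9101a0430000)))
noncomputable def eQ_c3 : BT (Bx Nat) := (BT.leaf (Bx.mk (nat_lit 0x31db641c31d5641621e0791f51cf61d051cd61ce21de791d51c861c951c661c771da71d971d871d791c2640371c571d471d371d271d191c1840a51cca04ba0440000)))
noncomputable def eQ_c4 : BT (Bx Nat) := (BT.leaf (Bx.mk (nat_lit 0x349c619b34966195519f48208850880f87ce878d519d481e8849880887c787867899649a789764986483918271847893649478916492848a9181518ba04ca0450000)))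
noncomputable def eQ_c5 : BT (Bx Nat) := (BT.leaf (Bx.mk (nat_lit 0x125a12594c9444d34c9044cf325f2260924b64cc524952485c1d2c5e924464c55b9b2bdc924264c35258a057724762556256924184ca5252a051524ea04da0460000)))
noncomputable def eQ_c6 : BT (Bx Nat) := (BT.leaf (Bx.mk (nat_lit 0x3cd94d1a12134214120f42102b60255f654c920b7b087ac9321e321d65459204321c321b654392025217a058720665566b55854a92015211a052520da04ea0470000)))
noncomputable def eQ_c7 : BT (Bx Nat) := (BT.leaf (Bx.mk (nat_lit 0x92d7659892d1659292cd658e92cb658c52e0a05f92c6658792c4658552dea05d92c2658352dca05b52daa05972c992c1858a52d6a05552d4a05352d0a04fa0480000)))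
noncomputable def eQ_c8 : BT (Bx Nat) := (BT.leaf (Bx.mk (nat_lit 0x6618929766129291660e928d660c928b529fa0606607928666059284529da05e66039282529ba05c5299a05a7288860a92815295a0565293a054528fa050a0490000)))
noncomputable def eQ_c9 : BT (Bx Nat) := (BT.leaf (Bx.mk (nat_lit 0x731f85e0731d85de731b85dc731985da73178518731585d6731385d473118512730f85d0730d850e730b844c9301730885c9730685077304844573028383a04a0000)))
noncomputable def eQ_p : BT (Bx Nat) := (BT.leaf (Bx.mk (nat_lit 0x45c88b8ed121a23b348668ecb21963b2c6658a86210c3a108420e8419082a088410e8219042a084410641248241047208c41148221043208441040000000)))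
noncomputable def eQ_e : BT Nat := BT.leaf (nat_lit 0)
noncomputable def eQ_cols : List (BT (Bx Nat)) := [eQ_c0, eQ_c1, eQ_c2, eQ_c3, eQ_c4, eQ_c5, eQ_c6, eQ_c7, eQ_c8, eQ_c9]
noncomputable def eQ_ch (x j : Nat) : Bx Nat := chunkG eQ_cols (nat_lit 1) x j
noncomputable def eQ_L (x : Nat) : Bx (Nat → Nat) := lookG eQ_ch (nat_lit 8) (nat_lit 255) (nat_lit 16) (nat_lit 65535) x
noncomputable def eQ_pc (_ j : Nat) : Bx Nat := eQ_p.get j
noncomputable def eQ_pb : Bx (Nat → Nat) := lookG eQ_pc (nat_lit 8) (nat_lit 255) (nat_lit 15) (nat_lit 32767) (nat_lit 0)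
noncomputable def eQ_rots : BT CW := (BT.node (nat_lit 26) (BT.node (nat_lit 13) (BT.node (nat_lit 6) (BT.node (nat_lit 3) (BT.node (nat_lit 1) (BT.leaf ⟨[], (nat_lit 1000000), (nat_lit 0), (nat_lit 0), (nat_lit 0)⟩) (BT.node (nat_lit 2) (BT.leaf ⟨[], (nat_lit 1000000), (nat_lit 0), (nat_lit 0), (nat_lit 1)⟩) (BT.leaf ⟨[], (nat_lit 1000000), (nat_lit 0), (nat_lit 0), (nat_lit 2)⟩))) (BT.node (nat_lit 4) (BT.leaf ⟨[(nat_lit 2), (nat_lit 1)], (nat_lit 15), (nat_lit 1), (nat_lit 0), (nat_lit 3)⟩) (BT.node (nat_lit 5) (BT.leaf ⟨[(nat_lit 1), (nat_lit 2)], (nat_lit 15), (nat_lit 0), (nat_lit 0), (nat_lit 3)⟩) (BT.leaf ⟨[(nat_lit 4), (nat_lit 3)], (nat_lit 14), (nat_lit 1), (nat_lit 0), (nat_lit 3)⟩)))) (BT.node (nat_lit 9) (BT.node (nat_lit 7) (BT.leaf ⟨[(nat_lit 3), (nat_lit 4)], (nat_lit 14), (nat_lit 0), (nat_lit 0), (nat_lit 3)⟩) (BT.node (nat_lit 8) (BT.leaf ⟨[(nat_lit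 6), (nat_lit 5)], (nat_lit 13), (nat_lit 1), (nat_lit 0), (nat_lit 3)⟩) (BT.leaf ⟨[(nat_lit 5), (nat_lit 6)], (nat_lit 13), (nat_lit 0), (nat_lit 0), (nat_lit 3)⟩))) (BT.node (nat_lit 11) (BT.node (nat_lit 10) (BT.leaf ⟨[(nat_lit 8), (nat_lit 7)], (nat_lit 12), (nat_lit 1), (nat_lit 0), (nat_lit 3)⟩) (BT.leaf ⟨[(nat_lit 7), (nat_lit 8)], (nat_lit 12), (nat_lit 0), (nat_lit 0), (nat_lit 3)⟩)) (BT.node (nat_lit 12) (BT.leaf ⟨[(nat_lit 9), (nat_lit 9)], (nat_lit 0), (nat_lit 0), (nat_lit 0), (nat_lit 3)⟩) (BT.leaf ⟨[(nat_lit 1), (nat_lit 9), (nat_lit 1)], (nat_lit 1), (nat_lit 1), (nat_lit 0), (nat_lit 3)⟩))))) (BT.node (nat_lit 19) (BT.node (nat_lit 16) (BT.node (nat_lit 14) (BT.leaf ⟨[(nat_lit 9), (nat_lit 1), (nat_lit 1)], (nat_lit 1), (nat_lit 2), (nat_lit 0), (nat_lit 3)⟩) (BT.node (nat_lit 15) (BT.leaf ⟨[(nat_lit 2), (nat_lit 9), (nat_lit 2)], (nat_lit 17), (nat_lit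 2), (nat_lit 0), (nat_lit 3)⟩) (BT.leaf ⟨[(nat_lit 3), (nat_lit 9), (nat_lit 3)], (nat_lit 2), (nat_lit 1), (nat_lit 0), (nat_lit 3)⟩))) (BT.node (nat_lit 17) (BT.leaf ⟨[(nat_lit 9), (nat_lit 3), (nat_lit 3)], (nat_lit 2), (nat_lit 2), (nat_lit 0), (nat_lit 3)⟩) (BT.node (nat_lit 18) (BT.leaf ⟨[(nat_lit 4), (nat_lit 9), (nat_lit 4)], (nat_lit 18), (nat_lit 2), (nat_lit 0), (nat_lit 3)⟩) (BT.leaf ⟨[(nat_lit 5), (nat_lit 9), (nat_lit 5)], (nat_lit 4), (nat_lit 1), (nat_lit 0), (nat_lit 3)⟩)))) (BT.node (nat_lit 22) (BT.node (nat_lit 20) (BT.leaf ⟨[(nat_lit 9), (nat_lit 5), (nat_lit 5)], (nat_lit 4), (nat_lit 2), (nat_lit 0), (nat_lit 3)⟩) (BT.node (nat_lit 21) (BT.leaf ⟨[(nat_lit 6), (nat_lit 9), (nat_lit 6)], (nat_lit 20), (nat_lit 2), (nat_lit 0), (nat_lit 3)⟩) (BT.leaf ⟨[(nat_lit 7), (nat_lit 9), (nat_lit 7)], (nat_lit 5), (nat_lit 1), (nat_lit 0), (nat_lit 3)⟩))) (BT.node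 (nat_lit 24) (BT.node (nat_lit 23) (BT.leaf ⟨[(nat_lit 9), (nat_lit 7), (nat_lit 7)], (nat_lit 5), (nat_lit 2), (nat_lit 0), (nat_lit 3)⟩) (BT.leaf ⟨[(nat_lit 8), (nat_lit 9), (nat_lit 8)], (nat_lit 21), (nat_lit 2), (nat_lit 0), (nat_lit 3)⟩)) (BT.node (nat_lit 25) (BT.leaf ⟨[(nat_lit 2), (nat_lit 6), (nat_lit 1), (nat_lit 5)], (nat_lit 7), (nat_lit 2), (nat_lit 0), (nat_lit 3)⟩) (BT.leaf ⟨[(nat_lit 2), (nat_lit 5), (nat_lit 1), (nat_lit 6)], (nat_lit 23), (nat_lit 3), (nat_lit 0), (nat_lit 3)⟩)))))) (BT.node (nat_lit 39) (BT.node (nat_lit 32) (BT.node (nat_lit 29) (BT.node (nat_lit 27) (BT.leaf ⟨[(nat_lit 2), (nat_lit 8), (nat_lit 1), (nat_lit 7)], (nat_lit 8), (nat_lit 2), (nat_lit 0), (nat_lit 3)⟩) (BT.node (nat_lit 28) (BT.leaf ⟨[(nat_lit 2), (nat_lit 7), (nat_lit 1), (nat_lit 8)], (nat_lit 24), (nat_lit 3), (nat_lit 0), (nat_lit 3)⟩) (BT.leaf ⟨[(nat_lit 2), (nat_lit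 2), (nat_lit 9)], (nat_lit 17), (nat_lit 1), (nat_lit 0), (nat_lit 3)⟩))) (BT.node (nat_lit 30) (BT.leaf ⟨[(nat_lit 4), (nat_lit 6), (nat_lit 3), (nat_lit 5)], (nat_lit 9), (nat_lit 2), (nat_lit 0), (nat_lit 3)⟩) (BT.node (nat_lit 31) (BT.leaf ⟨[(nat_lit 4), (nat_lit 5), (nat_lit 3), (nat_lit 6)], (nat_lit 25), (nat_lit 3), (nat_lit 0), (nat_lit 3)⟩) (BT.leaf ⟨[(nat_lit 4), (nat_lit 8), (nat_lit 3), (nat_lit 7)], (nat_lit 10), (nat_lit 2), (nat_lit 0), (nat_lit 3)⟩)))) (BT.node (nat_lit 35) (BT.node (nat_lit 33) (BT.leaf ⟨[(nat_lit 4), (nat_lit 7), (nat_lit 3), (nat_lit 8)], (nat_lit 26), (nat_lit 3), (nat_lit 0), (nat_lit 3)⟩) (BT.node (nat_lit 34) (BT.leaf ⟨[(nat_lit 4), (nat_lit 4), (nat_lit 9)], (nat_lit 18), (nat_lit 1), (nat_lit 0), (nat_lit 3)⟩) (BT.leaf ⟨[(nat_lit 1), (nat_lit 8), (nat_lit 2), (nat_lit 7)], (nat_lit 24), (nat_lit 1), (nat_lit 0), (nat_lit 3)⟩)))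 (BT.node (nat_lit 37) (BT.node (nat_lit 36) (BT.leaf ⟨[(nat_lit 3), (nat_lit 8), (nat_lit 4), (nat_lit 7)], (nat_lit 26), (nat_lit 1), (nat_lit 0), (nat_lit 3)⟩) (BT.leaf ⟨[(nat_lit 2), (nat_lit 4), (nat_lit 9), (nat_lit 1), (nat_lit 3)], (nat_lit 3), (nat_lit 2), (nat_lit 0), (nat_lit 3)⟩)) (BT.node (nat_lit 38) (BT.leaf ⟨[(nat_lit 2), (nat_lit 9), (nat_lit 3), (nat_lit 1), (nat_lit 4)], (nat_lit 19), (nat_lit 4), (nat_lit 0), (nat_lit 3)⟩) (BT.leaf ⟨[(nat_lit 1), (nat_lit 5), (nat_lit 2), (nat_lit 6)], (nat_lit 7), (nat_lit 0), (nat_lit 0), (nat_lit 3)⟩))))) (BT.node (nat_lit 45) (BT.node (nat_lit 42) (BT.node (nat_lit 40) (BT.leaf ⟨[(nat_lit 1), (nat_lit 6), (nat_lit 2), (nat_lit 5)], (nat_lit 23), (nat_lit 1), (nat_lit 0), (nat_lit 3)⟩) (BT.node (nat_lit 41) (BT.leaf ⟨[(nat_lit 1), (nat_lit 7), (nat_lit 2), (nat_lit 8)], (nat_lit 8), (nat_lit 0), (nat_lit 0), (nat_lit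 3)⟩) (BT.leaf ⟨[(nat_lit 1), (nat_lit 1), (nat_lit 9)], (nat_lit 1), (nat_lit 0), (nat_lit 0), (nat_lit 3)⟩))) (BT.node (nat_lit 43) (BT.leaf ⟨[(nat_lit 6), (nat_lit 8), (nat_lit 9), (nat_lit 5), (nat_lit 7)], (nat_lit 6), (nat_lit 2), (nat_lit 0), (nat_lit 3)⟩) (BT.node (nat_lit 44) (BT.leaf ⟨[(nat_lit 6), (nat_lit 9), (nat_lit 7), (nat_lit 5), (nat_lit 8)], (nat_lit 22), (nat_lit 4), (nat_lit 0), (nat_lit 3)⟩) (BT.leaf ⟨[(nat_lit 6), (nat_lit 6), (nat_lit 9)], (nat_lit 20), (nat_lit 1), (nat_lit 0), (nat_lit 3)⟩)))) (BT.node (nat_lit 48) (BT.node (nat_lit 46) (BT.leaf ⟨[(nat_lit 5), (nat_lit 2), (nat_lit 6), (nat_lit 1)], (nat_lit 7), (nat_lit 1), (nat_lit 0), (nat_lit 3)⟩) (BT.node (nat_lit 47) (BT.leaf ⟨[(nat_lit 5), (nat_lit 1), (nat_lit 6), (nat_lit 2)], (nat_lit 23), (nat_lit 0), (nat_lit 0), (nat_lit 3)⟩) (BT.leaf ⟨[(nat_lit 5), (nat_lit 4), (nat_lit 6), (nat_lit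 3)], (nat_lit 9), (nat_lit 1), (nat_lit 0), (nat_lit 3)⟩))) (BT.node (nat_lit 50) (BT.node (nat_lit 49) (BT.leaf ⟨[(nat_lit 5), (nat_lit 3), (nat_lit 6), (nat_lit 4)], (nat_lit 25), (nat_lit 0), (nat_lit 0), (nat_lit 3)⟩) (BT.leaf ⟨[(nat_lit 5), (nat_lit 5), (nat_lit 9)], (nat_lit 4), (nat_lit 0), (nat_lit 0), (nat_lit 3)⟩)) (BT.node (nat_lit 51) (BT.leaf ⟨[(nat_lit 6), (nat_lit 3), (nat_lit 5), (nat_lit 4)], (nat_lit 9), (nat_lit 3), (nat_lit 0), (nat_lit 3)⟩) (BT.leaf ⟨[(nat_lit 6), (nat_lit 4), (nat_lit 5), (nat_lit 3)], (nat_lit 25), (nat_lit 2), (nat_lit 0), (nat_lit 3)⟩)))))))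
noncomputable def eQ_hcs : List CW := []
noncomputable def eQ_H (x j : Nat) : Bx (Nat → Nat → Nat) := mkH eQ_L eQ_pb.1 eQ_e.get (lmap CW.w eQ_hcs) (nat_lit 32) (nat_lit 33) (nat_lit 10) (nat_lit 64) (nat_lit 4096) (nat_lit 4095) x (eQ_rots.get j)
noncomputable def eQ_F (x b : Nat) : Bool := blkOK eQ_H eQ_ch (nat_lit 33) (nat_lit 64) (nat_lit 64) (nat_lit 8) (nat_lit 255) (nat_lit 16) (nat_lit 65535) x b

theorem eQ_k0_0 : allFrom (eQ_F (nat_lit 0)) (nat_lit 0) (nat_lit 4) = true := by decide +kernel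
theorem eQ_k1_0 : allFrom (eQ_F (nat_lit 1)) (nat_lit 0) (nat_lit 4) = true := by decide +kernel
theorem eQ_k2_0 : allFrom (eQ_F (nat_lit 2)) (nat_lit 0) (nat_lit 4) = true := by decide +kernel
theorem eQ_k3_0 : allFrom (eQ_F (nat_lit 3)) (nat_lit 0) (nat_lit 4) = true := by decide +kernel
theorem eQ_k4_0 : allFrom (eQ_F (nat_lit 4)) (nat_lit 0) (nat_lit 4) = true := by decide +kernel
theorem eQ_k5_0 : allFrom (eQ_F (nat_lit 5)) (nat_lit 0) (nat_lit 4) = true := by decide +kernel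
theorem eQ_k6_0 : allFrom (eQ_F (nat_lit 6)) (nat_lit 0) (nat_lit 4) = true := by decide +kernel
theorem eQ_k7_0 : allFrom (eQ_F (nat_lit 7)) (nat_lit 0) (nat_lit 4) = true := by decide +kernel
theorem eQ_k8_0 : allFrom (eQ_F (nat_lit 8)) (nat_lit 0) (nat_lit 4) = true := by decide +kernel
theorem eQ_k9_0 : allFrom (eQ_F (nat_lit 9)) (nat_lit 0) (nat_lit 4) = true := by decide +kernel

theorem eQ_all : Cov eQ_F 4 10 0 := by
  have h := Cov.zero eQ_F 4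
  have h := h.blk (b := 4) eQ_k0_0 rfl
  have h := h.next (y := 1) rfl rfl
  have h := h.blk (b := 4) eQ_k1_0 rfl
  have h := h.next (y := 2) rfl rfl
  have h := h.blk (b := 4) eQ_k2_0 rfl
  have h := h.next (y := 3) rfl rfl
  have h := h.blk (b := 4) eQ_k3_0 rfl
  have h := h.next (y := 4) rfl rfl
  have h := h.blk (b := 4) eQ_k4_0 rfl
  have h := h.next (y := 5) rfl rfl
  have h := h.blk (b := 4) eQ_k5_0 rfl
  have h := h.next (y := 6) rfl rfl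
  have h := h.blk (b := 4) eQ_k6_0 rfl
  have h := h.next (y := 7) rfl rfl
  have h := h.blk (b := 4) eQ_k7_0 rfl
  have h := h.next (y := 8) rfl rfl
  have h := h.blk (b := 4) eQ_k8_0 rfl
  have h := h.next (y := 9) rfl rfl
  have h := h.blk (b := 4) eQ_k9_0 rfl
  have h := h.next (y := 10) rfl rfl
  exact h

theorem eQ : Enum RQ [] (gensW 5) 32 :=
  ⟨eQ_cols, eQ_ch, eQ_L, eQ_H, eQ_pb.1, eQ_e.get, [(nat_lit 0), (nat_lit 1), (nat_lit 2), (nat_lit 3), (nat_lit 4), (nat_lit 5), (nat_lit 6), (nat_lit 7), (nat_lit 8), (nat_lit 9)], (nat_lit 16), (nat_lit 5), eQ_rots, eQ_hcs,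
    (nat_lit 33), (nat_lit 10), (nat_lit 64), (nat_lit 64), (nat_lit 4096), (nat_lit 4095), (nat_lit 8), (nat_lit 255), (nat_lit 16), (nat_lit 65535), (nat_lit 1), (nat_lit 4),
    fun _ _ => rfl, fun _ => rfl, fun _ _ => rfl, by decide +kernel, eQ_all.1⟩

theorem pQ : TQ.Pres RQ (gensW 5) := ⟨CT.ok_spec TQ_ok, lall_iff.1 TQ_rel, by decide +kernel,
  by decide +kernel, by decide +kernel, eQ.bound (ug_rels _) (bound_nil _)⟩

instance instTQ : TQ.Grp := pQ.grp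


end CF.GM.CE
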